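import Groth.Agent.CohDer1.PCAlg.Res
import Groth.Prelude.Def_DDual2
import Mathlib.Algebra.Homology.DerivedCategory.ExactFunctor

/-! Pseudo-coherence over a finite free, possibly noncommutative, algebra. -/

set_option autoImplicit false
set_option backward.isDefEq.respectTransparency false
set_option backward.defeqAttrib.useBackward true
set_option linter.style.haveILetI false

universe u

open CategoryTheory CategoryTheory.Limits HomologicalComplex CategoryTheory.Pretriangulated

attribute [local instance] HasDerivedCategory.standard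

namespace Groth.Agent.CohDer1.PCAlg

variable {A : Type u} [CommRing A] {R : Type u} [Ring R] [Algebra A R]
  [PreservesFiniteLimits (ModuleCat.restrictScalars.{u} (algebraMap A R))]
  [PreservesFiniteColimits (ModuleCat.restrictScalars.{u} (algebraMap A R))]

/-- Homology of a restriction. -/
noncomputable def hfResIso (K : D R) (i : ℤ) :
    (DRingLib.HF A i).obj ((ModuleCat.restrictScalars.{u} (algebraMap A R)).mapDerivedCategory.obj K) ≅
      (ModuleCat.restrictScalars.{u} (algebraMap A R)).obj ((HF R i).obj K) :=
  let F := ModuleCat.restrictScalars.{u} (algebraMap A R)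
  let L := DerivedCategory.Q.objPreimage K
  let e : DerivedCategory.Q.obj L ≅ K := DerivedCategory.Q.objObjPreimageIso K
  (DRingLib.HF A i).mapIso (F.mapDerivedCategory.mapIso e.symm ≪≫ F.mapDerivedCategoryFactors.app L) ≪≫
    DRingLib.HQ ((F.mapHomologicalComplex (ComplexShape.up ℤ)).obj L) i ≪≫ (L.sc i).mapHomologyIso F ≪≫
    F.mapIso ((HQ L i).symm ≪≫ (HF R i).mapIso e)

theorem isLE_res (K : D R) (b : ℤ) :
    ((ModuleCat.restrictScalars.{u} (algebraMap A R)).mapDerivedCategory.obj K).IsLE b ↔ K.IsLE b := by
  rw [DerivedCategory.isLE_iff, DerivedCategory.isLE_iff]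
  refine forall₂_congr fun i _ => (Iso.isZero_iff (hfResIso K i)).trans ?_
  exact ⟨fun h => by
    haveI := ModuleCat.subsingleton_of_isZero h
    exact @ModuleCat.isZero_of_subsingleton R _ ((HF R i).obj K) (inferInstanceAs
      (Subsingleton ((ModuleCat.restrictScalars.{u} (algebraMap A R)).obj ((HF R i).obj K)))),
    fun h => (ModuleCat.restrictScalars.{u} (algebraMap A R)).map_isZero h⟩

theorem exists_of_res [Module.Finite A R] [Module.Free A R] (M : D R)
    (hM : DRing.IsPseudoCoherent' A ((ModuleCat.restrictScalars.{u} (algebraMap A R)).mapDerivedCategory.obj M)) :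
    ∃ (F : Cx R) (c : ℤ), (∀ i : ℤ, c < i → IsZero (F.X i)) ∧
      (∀ i : ℤ, Module.Finite R (F.X i) ∧ Module.Free R (F.X i)) ∧ Nonempty (DerivedCategory.Q.obj F ≅ M) := by
  let G := ModuleCat.restrictScalars.{u} (algebraMap A R)
  obtain ⟨P, b, hb, hPf, ⟨eP⟩⟩ := id hM
  let L := DerivedCategory.Q.objPreimage M
  let e : DerivedCategory.Q.obj L ≅ M := DerivedCategory.Q.objObjPreimageIso M
  haveI : (G.mapDerivedCategory.obj (DerivedCategory.Q.obj L)).IsLE b := by
    refine (DerivedCategory.isLE_iff _ b).2 fun i hi => IsZero.of_iso ?_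
      ((DRingLib.HF A i).mapIso (G.mapDerivedCategory.mapIso e ≪≫ eP.symm) ≪≫ DRingLib.HQ P i)
    rw [← HomologicalComplex.exactAt_iff_isZero_homology]
    exact ExactAt.of_isZero (hb i hi)
  haveI : (DerivedCategory.Q.obj L).IsLE b := (isLE_res (A := A) (DerivedCategory.Q.obj L) b).1 inferInstance
  have hadm : Adm (DerivedCategory.Q.obj L) := by
    intro E a c hE hf C α g w hT k hk
    haveI := (isLE_res (A := A) C k).2 hk
    let E' := (G.mapHomologicalComplex (ComplexShape.up ℤ)).obj E
    have hE' : ∀ m, DRing.IsPseudoCoherent A m (G.mapDerivedCategory.obj (DerivedCategory.Q.obj E)) := fun m =>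
      DRingLib.pc_iso (G.mapDerivedCategoryFactors.app E).symm
        (DRingLib.pc_of_pc' ⟨E', c, fun i hi => G.map_isZero (hE i (Or.inr hi)), fun i => by
          haveI := (hf i).1
          haveI := (hf i).2
          letI : Module A (E.X i) := Module.compHom _ (algebraMap A R)
          haveI : IsScalarTower A R (E.X i) := ⟨fun a r x => by
            show (a • r) • x = algebraMap A R a • r • x
            rw [Algebra.smul_def, mul_smul]⟩
          exact ⟨(Module.Finite.trans R (E.X i) : Module.Finite A (E.X i)),
            (Module.Free.trans (R := A) (S := R) (M := E.X i) : Module.Free A (E.X i))⟩, ⟨Iso.refl _⟩⟩ m)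
    have hpc : DRing.IsPseudoCoherent A k (G.mapDerivedCategory.obj C) :=
      DRingLib.pc_cone (G.mapDerivedCategory.map_distinguished _ hT) (hE' _)
        (DRingLib.pc_iso (G.mapDerivedCategory.mapIso e).symm (DRingLib.pc_of_pc' hM k))
    haveI h1 := DRingLib.finite_top hpc
    have h2 : Module.Finite A (G.obj ((HF R k).obj C)) :=
      DRingLib.finite_of_iso (hfResIso C k) h1
    letI : Module A ((HF R k).obj C) := Module.compHom _ (algebraMap A R)
    haveI : IsScalarTower A R ((HF R k).obj C) := ⟨fun a r x => by
      show (a • r) • x = algebraMap A R a • r • x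
      rw [Algebra.smul_def, mul_smul]⟩
    haveI : Module.Finite A ((HF R k).obj C) := h2
    exact Module.Finite.of_restrictScalars_finite A R _
  obtain ⟨F, c, hF, hFf, ⟨eF⟩⟩ := exists_resolution L hadm b
  exact ⟨F, c, hF, hFf, ⟨eF ≪≫ e⟩⟩

end Groth.Agent.CohDer1.PCAlg
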