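import Groth.Agent.DRingLib.PCRes
import Mathlib.Algebra.Homology.DerivedCategory.KProjective
import Mathlib.Algebra.Category.ModuleCat.Projective

/-! Bounded above complexes of finite free modules over a noncommutative ring: the resolution step. -/

set_option autoImplicit false
set_option backward.isDefEq.respectTransparency false
set_option backward.defeqAttrib.useBackward true
set_option linter.style.haveILetI false

universe u

open CategoryTheory CategoryTheory.Limits HomologicalComplex CategoryTheory.Pretriangulated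
open scoped ZeroObject

attribute [local instance] HasDerivedCategory.standard

namespace Groth.Agent.CohDer1.PCAlg

variable {R : Type u} [Ring R]

abbrev Cx (R : Type u) [Ring R] : Type (u + 1) := CochainComplex (ModuleCat.{u} R) ℤ

abbrev D (R : Type u) [Ring R] : Type (u + 1) := DerivedCategory (ModuleCat.{u} R)

noncomputable abbrev HF (R : Type u) [Ring R] (i : ℤ) : D R ⥤ ModuleCat.{u} R :=
  DerivedCategory.homologyFunctor (ModuleCat.{u} R) i

noncomputable abbrev HQ (K : Cx R) (i : ℤ) : (HF R i).obj (DerivedCategory.Q.obj K) ≅ K.homology i :=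
  (DerivedCategory.homologyFunctorFactors (ModuleCat.{u} R) i).app K

/-- Termwise vanishing outside an interval. -/
def Outside (P : Cx R) (a b : ℤ) : Prop := ∀ i : ℤ, i < a ∨ b < i → IsZero (P.X i)

/-- Termwise finite free. -/
def FFree (P : Cx R) : Prop := ∀ i : ℤ, Module.Finite R (P.X i) ∧ Module.Free R (P.X i)

lemma finite_of_epi {M N : ModuleCat.{u} R} (f : M ⟶ N) [Epi f] (h : Module.Finite R M) : Module.Finite R N :=
  haveI := h
  Module.Finite.of_surjective f.hom ((ModuleCat.epi_iff_surjective f).1 inferInstance)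

lemma finite_of_iso {M N : ModuleCat.{u} R} (e : M ≅ N) (h : Module.Finite R M) : Module.Finite R N :=
  finite_of_epi e.hom h

/-- A morphism inducing isomorphisms above `m` and an epimorphism in degree `m`. -/
def Apx (m : ℤ) {K L : D R} (f : K ⟶ L) : Prop :=
  (∀ i, m < i → IsIso ((HF R i).map f)) ∧ Epi ((HF R m).map f)

lemma apx_iff_isLE (m : ℤ) (T : Triangle (D R)) (hT : T ∈ distinguishedTriangles) :
    Apx m T.mor₁ ↔ T.obj₃.IsLE (m - 1) := by
  rw [DerivedCategory.isLE_iff]
  constructor
  · intro h i hi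
    have hz : (HF R i).map T.mor₂ = 0 := by
      rcases eq_or_lt_of_le (show m ≤ i by omega) with rfl | hi'
      · exact (DerivedCategory.HomologySequence.epi_homologyMap_mor₁_iff T hT m).1 h.2
      · exact (DerivedCategory.HomologySequence.epi_homologyMap_mor₁_iff T hT i).1 (by haveI := h.1 i hi'; infer_instance)
    haveI : Mono ((HF R (i + 1)).map T.mor₁) := by haveI := h.1 (i + 1) (by omega); infer_instance
    have hd := (DerivedCategory.HomologySequence.mono_homologyMap_mor₁_iff T hT i (i + 1) rfl).1 inferInstance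
    exact (DerivedCategory.HomologySequence.exact₃ T hT i (i + 1) rfl).isZero_of_both_zeros hz hd
  · intro h
    have he : ∀ i, m ≤ i → Epi ((HF R i).map T.mor₁) := fun i hi =>
      (DerivedCategory.HomologySequence.epi_homologyMap_mor₁_iff T hT i).2 ((h i (by omega)).eq_of_tgt _ _)
    refine ⟨fun i hi => ?_, he m le_rfl⟩
    haveI := he i (by omega)
    haveI : Mono ((HF R i).map T.mor₁) :=
      (DerivedCategory.HomologySequence.mono_homologyMap_mor₁_iff T hT (i - 1) i (by omega)).2
        ((h (i - 1) (by omega)).eq_of_src _ _)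
    exact isIso_of_mono_of_epi _

lemma apx_of_isIso (m : ℤ) {K L : D R} (f : K ⟶ L) [IsIso f] : Apx m f :=
  ⟨fun _ _ => inferInstance, inferInstance⟩

lemma isLE_shift' (K : D R) (b n b' : ℤ) [K.IsLE b] (h : n + b' = b) : (K⟦n⟧).IsLE b' :=
  DerivedCategory.TStructure.t.isLE_shift K b n b' h

/-- Lifting from bounded above complexes of projectives. -/
lemma exists_Q_map {P L : Cx R} [P.IsKProjective] (α : DerivedCategory.Q.obj P ⟶ DerivedCategory.Q.obj L) :
    ∃ f : P ⟶ L, DerivedCategory.Q.map f = α := by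
  obtain ⟨f', hf⟩ := (CochainComplex.IsKProjective.Qh_map_bijective P _).2
    ((DerivedCategory.quotientCompQhIso (ModuleCat.{u} R)).hom.app _ ≫ α ≫
      (DerivedCategory.quotientCompQhIso (ModuleCat.{u} R)).inv.app L)
  obtain ⟨f, rfl⟩ := (HomotopyCategory.quotient _ (ComplexShape.up ℤ)).map_surjective f'
  refine ⟨f, ?_⟩
  rw [← cancel_epi ((DerivedCategory.quotientCompQhIso (ModuleCat.{u} R)).hom.app P)]
  refine ((DerivedCategory.quotientCompQhIso (ModuleCat.{u} R)).hom.naturality f).symm.trans ?_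
  exact (congrArg (· ≫ _) hf).trans (by simp)

lemma isKProjective_of_outside {P : Cx R} {a b : ℤ} (hP : Outside P a b)
    (hp : ∀ i, Module.Projective R (P.X i)) : P.IsKProjective := by
  haveI : P.IsStrictlyLE b := by
    rw [CochainComplex.isStrictlyLE_iff]
    exact fun i hi => hP i (Or.inr hi)
  haveI : ∀ i, Projective (P.X i) := fun i => (IsProjective.iff_projective (P.X i)).1 (hp i)
  exact CochainComplex.isKProjective_of_projective P b

lemma free_zero {X : ModuleCat.{u} R} (h : IsZero X) : Module.Finite R X ∧ Module.Free R X :=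
  haveI := ModuleCat.subsingleton_of_isZero h
  ⟨inferInstance, inferInstance⟩

lemma free_of_iso {X Y : ModuleCat.{u} R} (e : X ≅ Y) (h : Module.Finite R X ∧ Module.Free R X) :
    Module.Finite R Y ∧ Module.Free R Y :=
  haveI := h.1
  haveI := h.2
  ⟨Module.Finite.equiv e.toLinearEquiv, Module.Free.of_equiv e.toLinearEquiv⟩

lemma projective_of_free {E : Cx R} (hE : FFree E) (i : ℤ) : Module.Projective R (E.X i) :=
  haveI := (hE i).2
  inferInstance

lemma finite_free_mappingCone {P Q : Cx R} (φ : P ⟶ Q) {a b a' b' : ℤ} (hP : Outside P a b)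
    (hPf : FFree P) (hQ : Outside Q a' b') (hQf : FFree Q) :
    Outside (CochainComplex.mappingCone φ) (min (a - 1) a') (max (b - 1) b') ∧
      FFree (CochainComplex.mappingCone φ) := by
  have e : ∀ i : ℤ, Nonempty ((CochainComplex.mappingCone φ).X i ≅ ModuleCat.of R (P.X (i + 1) × Q.X i)) :=
    fun i => ⟨(homotopyCofiber.XIsoBiprod φ i (i + 1) (by simp)) ≪≫ ModuleCat.biprodIsoProd _ _⟩
  refine ⟨fun i hi => ?_, fun i => ?_⟩
  · obtain ⟨e⟩ := e i
    haveI := ModuleCat.subsingleton_of_isZero (hP (i + 1) (by omega))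
    haveI := ModuleCat.subsingleton_of_isZero (hQ i (by omega))
    exact IsZero.of_iso (@ModuleCat.isZero_of_subsingleton _ _ _ (inferInstanceAs (Subsingleton (P.X (i + 1) × Q.X i)))) e
  · obtain ⟨e⟩ := e i
    haveI := (hPf (i + 1)).1
    haveI := (hPf (i + 1)).2
    haveI := (hQf i).1
    haveI := (hQf i).2
    exact free_of_iso e.symm ⟨inferInstanceAs (Module.Finite R (P.X (i + 1) × Q.X i)),
      inferInstanceAs (Module.Free R (P.X (i + 1) × Q.X i))⟩

/-- A finite free module in a single degree. -/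
noncomputable abbrev freeAt (R : Type u) [Ring R] (b : ℤ) (r : ℕ) : Cx R :=
  (HomologicalComplex.single (ModuleCat.{u} R) (ComplexShape.up ℤ) b).obj (ModuleCat.of R (Fin r → R))

lemma freeAt_finiteFree (b : ℤ) (r : ℕ) :
    Outside (freeAt R b r) b b ∧ FFree (freeAt R b r) := by
  refine ⟨fun i hi => isZero_single_obj_X _ _ _ _ (by omega), fun i => ?_⟩
  by_cases hi : i = b
  · subst hi
    exact free_of_iso (singleObjXSelf (ComplexShape.up ℤ) i _).symm ⟨inferInstance, inferInstance⟩
  · exact free_zero (isZero_single_obj_X _ _ _ _ hi)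

/-- A free cover of a finite cohomology module. -/
theorem exists_cover (K : D R) (b : ℤ) (h : Module.Finite R ((HF R b).obj K)) :
    ∃ (r : ℕ) (g : DerivedCategory.Q.obj (freeAt R b r) ⟶ K), Epi ((HF R b).map g) := by
  haveI := h
  obtain ⟨L, ⟨e⟩⟩ : ∃ L, Nonempty (DerivedCategory.Q.obj L ≅ K) := ⟨_, ⟨DerivedCategory.Q.objObjPreimageIso K⟩⟩
  haveI := finite_of_iso ((HF R b).mapIso e.symm ≪≫ HQ L b) h
  obtain ⟨r, p, hp⟩ := Module.Finite.exists_fin' R (L.homology b)
  haveI : Projective (ModuleCat.of R (Fin r → R)) := (IsProjective.iff_projective (Fin r → R)).1 inferInstance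
  haveI : Epi (ModuleCat.ofHom p) := (ModuleCat.epi_iff_surjective _).2 hp
  let z := Projective.factorThru (ModuleCat.ofHom p) (L.homologyπ b)
  let f : freeAt R b r ⟶ L := mkHomFromSingle (z ≫ L.iCycles b) fun k _ => by simp
  refine ⟨r, DerivedCategory.Q.map f ≫ e.hom, ?_⟩
  have hf : Epi (homologyMap f b) := by
    refine @epi_of_epi _ _ _ _ _ ((freeAt R b r).homologyπ b) _ ?_
    rw [homologyπ_naturality]
    haveI : IsIso ((freeAt R b r).iCycles b) :=
      (freeAt R b r).isIso_iCycles b (b + 1) (by simp) (single_obj_d _ _ _ _ _)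
    have hc : (singleObjXSelf (ComplexShape.up ℤ) b (ModuleCat.of R (Fin r → R))).inv ≫
        inv ((freeAt R b r).iCycles b) ≫ cyclesMap f b = z := by
      rw [← cancel_mono (L.iCycles b)]
      simp [f]
    exact epi_of_epi_fac (show ((singleObjXSelf (ComplexShape.up ℤ) b (ModuleCat.of R (Fin r → R))).inv ≫
        inv ((freeAt R b r).iCycles b)) ≫ cyclesMap f b ≫ L.homologyπ b = ModuleCat.ofHom p by
      rw [Category.assoc, reassoc_of% hc]
      exact Projective.factorThru_comp _ _)
  haveI : Epi ((HF R b).map (DerivedCategory.Q.map f)) := by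
    haveI := hf
    have := NatIso.naturality_2 (DerivedCategory.homologyFunctorFactors (ModuleCat.{u} R) b) f
    dsimp at this
    rw [← this]
    infer_instance
  rw [Functor.map_comp]
  infer_instance

/-- Top cohomology of the cones of maps from finite free complexes is finite. -/
def Adm (K : D R) : Prop :=
  ∀ (E : Cx R) (a b : ℤ), Outside E a b → FFree E → ∀ (C : D R) (α : DerivedCategory.Q.obj E ⟶ K) (g : K ⟶ C)
    (w : C ⟶ (DerivedCategory.Q.obj E)⟦(1 : ℤ)⟧), Triangle.mk α g w ∈ distinguishedTriangles →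
    ∀ k : ℤ, C.IsLE k → Module.Finite R ((HF R k).obj C)

/-- A stage of a resolution. -/
structure Stage (L : Cx R) (b n : ℤ) where
  E : Cx R
  α : E ⟶ L
  outside : Outside E n b
  free : FFree E
  apx : Apx n (DerivedCategory.Q.map α)

lemma quotient_nullHomotopicMap {E L : Cx R} (f : E ⟶ L) (hom : ∀ i j, E.X i ⟶ L.X j)
    (hz : ∀ i j, ¬ (ComplexShape.up ℤ).Rel j i → hom i j = 0) :
    DerivedCategory.Q.map (f + Homotopy.nullHomotopicMap hom) = DerivedCategory.Q.map f := by
  haveI : DerivedCategory.Q (C := ModuleCat.{u} R) |>.Additive := inferInstance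
  rw [Functor.map_add]
  have h : (HomotopyCategory.quotient (ModuleCat.{u} R) (ComplexShape.up ℤ)).map (Homotopy.nullHomotopicMap hom) = 0 := by
    rw [HomotopyCategory.eq_of_homotopy _ _ (Homotopy.nullHomotopy hom hz), Functor.map_zero]
  have := NatIso.naturality_1 (DerivedCategory.quotientCompQhIso (ModuleCat.{u} R)) (Homotopy.nullHomotopicMap hom)
  dsimp at this
  rw [← this, h, Functor.map_zero, zero_comp, comp_zero, add_zero]

/-- A map out of a mapping cone may be changed within its class to restrict strictly. -/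
lemma exists_strict_ext {F E L : Cx R} (ψ : F ⟶ E) (v : CochainComplex.mappingCone ψ ⟶ L) (α : E ⟶ L)
    (h : Homotopy (CochainComplex.mappingCone.inr ψ ≫ v) α) :
    ∃ v' : CochainComplex.mappingCone ψ ⟶ L,
      DerivedCategory.Q.map v' = DerivedCategory.Q.map v ∧ CochainComplex.mappingCone.inr ψ ≫ v' = α := by
  let s := (CochainComplex.mappingCone.snd ψ)
  let hom : ∀ i j, (CochainComplex.mappingCone ψ).X i ⟶ L.X j := fun i j =>
    s.v i i (add_zero i) ≫ (-h.hom i j)
  have hz : ∀ i j, ¬ (ComplexShape.up ℤ).Rel j i → hom i j = 0 := fun i j hij => by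
    simp [hom, h.zero i j hij]
  refine ⟨v + Homotopy.nullHomotopicMap hom, quotient_nullHomotopicMap v hom hz, ?_⟩
  ext1 i
  have hc := h.comm i
  simp only [comp_f, add_f_apply, Preadditive.comp_add] at hc ⊢
  rw [hc]
  have : (CochainComplex.mappingCone.inr ψ).f i ≫ (Homotopy.nullHomotopicMap hom).f i =
      -(dNext i h.hom + prevD i h.hom) := by
    simp only [Homotopy.nullHomotopicMap, Preadditive.comp_add]
    rw [dNext_eq _ (show (ComplexShape.up ℤ).Rel i (i + 1) by simp),
      prevD_eq _ (show (ComplexShape.up ℤ).Rel (i - 1) i by simp),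
      dNext_eq _ (show (ComplexShape.up ℤ).Rel i (i + 1) by simp),
      prevD_eq _ (show (ComplexShape.up ℤ).Rel (i - 1) i by simp)]
    rw [reassoc_of% ((CochainComplex.mappingCone.inr ψ).comm i (i + 1))]
    simp [hom, s, add_comm]
  rw [this]
  abel

/-- The next stage. -/
theorem exists_next {L : Cx R} (hL : Adm (DerivedCategory.Q.obj L))
    {b n : ℤ} (hn : n ≤ b + 1) (s : Stage L b n) :
    ∃ (t : Stage L b (n - 1)) (j : s.E ⟶ t.E), j ≫ t.α = s.α ∧ ∀ i, n ≤ i → IsIso (j.f i) := by
  obtain ⟨C, g, w, hT⟩ := distinguished_cocone_triangle (DerivedCategory.Q.map s.α)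
  haveI : C.IsLE (n - 1) := (apx_iff_isLE n _ hT).1 s.apx
  have hC := hL s.E n b s.outside s.free C _ g w hT (n - 1) inferInstance
  have hT' := inv_rot_of_distTriang _ hT
  let C' : D R := C⟦(-1 : ℤ)⟧
  haveI : C'.IsLE n := isLE_shift' C (n - 1) (-1) n (by omega)
  have hC' : Module.Finite R ((HF R n).obj C') := finite_of_iso (((HF R 0).shiftIso (-1) n (n - 1) (by omega)).app C).symm hC
  obtain ⟨r, c, hc⟩ := exists_cover C' n hC'
  haveI : (freeAt R n r).IsKProjective :=
    isKProjective_of_outside (freeAt_finiteFree n r).1 (projective_of_free (freeAt_finiteFree n r).2)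
  obtain ⟨ψ, hψ⟩ := exists_Q_map (c ≫ (Triangle.mk (DerivedCategory.Q.map s.α) g w).invRotate.mor₁)
  obtain ⟨Z, gz, wz, hZ⟩ := distinguished_cocone_triangle c
  haveI : Z.IsLE (n - 1) := by
    refine (apx_iff_isLE n _ hZ).1 ⟨fun i hi => ?_, hc⟩
    refine ⟨0, IsZero.eq_of_src (IsZero.of_iso ?_ (HQ _ i)) _ _,
      (DerivedCategory.isZero_of_isLE C' n i hi).eq_of_src _ _⟩
    rw [← HomologicalComplex.exactAt_iff_isZero_homology]
    exact ExactAt.of_isZero (isZero_single_obj_X _ _ _ _ (by omega))
  let O := Triangulated.someOctahedron hψ.symm hZ hT' (DerivedCategory.mappingCone_triangle_distinguished ψ)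
  have hu : Apx (n - 1) O.m₃ := (apx_iff_isLE (n - 1) _ (rot_of_distTriang _ O.mem)).2
    (isLE_shift' Z (n - 1) 1 (n - 1 - 1) (by omega))
  obtain ⟨hv, hvf⟩ := finite_free_mappingCone ψ (freeAt_finiteFree n r).1 (freeAt_finiteFree n r).2 s.outside s.free
  have hv' : Outside (CochainComplex.mappingCone ψ) (n - 1) b := fun i hi =>
    hv i (by rcases hi with hi | hi <;> omega)
  haveI := isKProjective_of_outside hv' (projective_of_free hvf)
  obtain ⟨v, hv₀⟩ := exists_Q_map (P := CochainComplex.mappingCone ψ) (L := L) O.m₃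
  haveI := isKProjective_of_outside s.outside (projective_of_free s.free)
  have hq : DerivedCategory.Q.map (CochainComplex.mappingCone.inr ψ ≫ v) = DerivedCategory.Q.map s.α := by
    rw [Functor.map_comp, hv₀]
    exact O.comm₃
  have hh : (HomotopyCategory.quotient _ (ComplexShape.up ℤ)).map (CochainComplex.mappingCone.inr ψ ≫ v) =
      (HomotopyCategory.quotient _ (ComplexShape.up ℤ)).map s.α := by
    apply (CochainComplex.IsKProjective.Qh_map_bijective s.E _).1
    rw [← cancel_mono ((DerivedCategory.quotientCompQhIso (ModuleCat.{u} R)).hom.app L)]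
    refine ((DerivedCategory.quotientCompQhIso (ModuleCat.{u} R)).hom.naturality _).trans
      (Eq.trans ?_ ((DerivedCategory.quotientCompQhIso (ModuleCat.{u} R)).hom.naturality _).symm)
    rw [hq]
  obtain ⟨v', hv'q, hv'α⟩ := exists_strict_ext ψ v s.α (HomotopyCategory.homotopyOfEq _ _ hh)
  refine ⟨⟨_, v', hv', hvf, by rw [hv'q, hv₀]; exact hu⟩, CochainComplex.mappingCone.inr ψ, hv'α, fun i hi => ?_⟩
  have hz : IsZero ((freeAt R n r).X (i + 1)) := isZero_single_obj_X _ _ _ _ (by omega)
  refine ⟨(CochainComplex.mappingCone.snd ψ).v i i (add_zero i), by simp, ?_⟩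
  apply CochainComplex.mappingCone.ext_to _ i (i + 1) rfl
  · exact hz.eq_of_tgt _ _
  · simp

theorem exists_resolution (L : Cx R) (hL : Adm (DerivedCategory.Q.obj L)) (b : ℤ)
    [hLle : (DerivedCategory.Q.obj L).IsLE b] :
    ∃ (F : Cx R) (c : ℤ), (∀ i : ℤ, c < i → IsZero (F.X i)) ∧ FFree F ∧
      Nonempty (DerivedCategory.Q.obj F ≅ DerivedCategory.Q.obj L) := by
  let s₀ : Stage L b (b + 1 - ((0 : ℕ) : ℤ)) :=
    { E := 0
      α := 0
      outside := fun i _ => (HomologicalComplex.eval _ _ i).map_isZero (isZero_zero _)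
      free := fun i => free_zero ((HomologicalComplex.eval _ _ i).map_isZero (isZero_zero _))
      apx := by
        refine ⟨fun i hi => ⟨0, IsZero.eq_of_src ?_ _ _, ?_⟩, ⟨fun g g' _ => ?_⟩⟩
        · exact Functor.map_isZero _ (DerivedCategory.Q.map_isZero (isZero_zero _))
        · exact (DerivedCategory.isZero_of_isLE _ b i (by omega)).eq_of_src _ _
        · exact (DerivedCategory.isZero_of_isLE _ b _ (by omega)).eq_of_src _ _ }
  have hstep : ∀ (k : ℕ) (s : Stage L b (b + 1 - (k : ℤ))), ∃ (t : Stage L b (b + 1 - ((k + 1 : ℕ) : ℤ)))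
      (j : s.E ⟶ t.E), j ≫ t.α = s.α ∧ ∀ i, b + 1 - (k : ℤ) ≤ i → IsIso (j.f i) := fun k s => by
    obtain ⟨t, j, h1, h2⟩ := exists_next hL (by omega) s
    rw [show b + 1 - ((k + 1 : ℕ) : ℤ) = b + 1 - (k : ℤ) - 1 by omega]
    exact ⟨t, j, h1, h2⟩
  choose next j hj hiso using hstep
  let st : ∀ k : ℕ, Stage L b (b + 1 - (k : ℤ)) := fun k => Nat.rec s₀ next k
  let f : ∀ k, (st k).E ⟶ (st (k + 1)).E := fun k => j k (st k)
  let F : ℕ ⥤ Cx R := Functor.ofSequence f
  let cl := colimit.cocone F
  let β : cl.pt ⟶ L := colimit.desc F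
    { pt := L
      ι := NatTrans.ofSequence (fun k => (st k).α) fun k => by
        dsimp
        rw [Functor.ofSequence_map_homOfLE_succ, Category.comp_id]
        exact hj k (st k) }
  have hcon : ∀ (i : ℤ) (k : ℕ), b + 1 - (k : ℤ) ≤ i →
      IsIso ((colimit.ι F k).f i) := fun i k hk => by
    have hev : (F ⋙ HomologicalComplex.eval (ModuleCat.{u} R) (ComplexShape.up ℤ) i).IsEventuallyConstantFrom k := by
      intro l φ
      obtain ⟨d, rfl⟩ := Nat.exists_eq_add_of_le (leOfHom φ)
      induction d with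
      | zero =>
        rw [show φ = 𝟙 k from Subsingleton.elim _ _, CategoryTheory.Functor.map_id]
        infer_instance
      | succ d ih =>
        rw [show φ = homOfLE (Nat.le_add_right k d) ≫ homOfLE (Nat.le_add_right (k + d) 1) from Subsingleton.elim _ _,
          Functor.map_comp]
        haveI := ih (homOfLE (Nat.le_add_right k d))
        haveI : IsIso ((F ⋙ HomologicalComplex.eval (ModuleCat.{u} R) (ComplexShape.up ℤ) i).map
            (homOfLE (Nat.le_add_right (k + d) 1))) := by
          simp only [Functor.comp_map, HomologicalComplex.eval_map, F, Functor.ofSequence_map_homOfLE_succ]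
          exact hiso (k + d) (st (k + d)) i (by omega)
        infer_instance
    exact hev.isIso_ι_of_isColimit (isColimitOfPreserves (HomologicalComplex.eval _ _ i) (colimit.isColimit F))
  have hk : ∀ i : ℤ, ∃ k : ℕ, b + 1 - (k : ℤ) ≤ i := fun i => ⟨(b + 1 - i).toNat, by omega⟩
  refine ⟨cl.pt, b, fun i hi => ?_, fun i => ?_, ⟨@asIso _ _ _ _ (DerivedCategory.Q.map β) ?_⟩⟩
  · haveI := hcon i 0 (by omega)
    exact ((st 0).outside i (Or.inr hi)).of_iso (asIso ((colimit.ι F 0).f i)).symm
  · obtain ⟨k, hk⟩ := hk i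
    haveI := hcon i k hk
    exact free_of_iso (asIso ((colimit.ι F k).f i)) ((st k).free i)
  · rw [DerivedCategory.isIso_Q_map_iff_quasiIso]
    refine ⟨fun i => ?_⟩
    obtain ⟨k, hk⟩ := hk (i - 1)
    haveI h1 : QuasiIsoAt ((colimit.ι F k)) i := by
      rw [quasiIsoAt_iff' _ (i - 1) i (i + 1) (by simp) (by simp)]
      haveI := hcon (i - 1) k hk
      haveI := hcon i k (by omega)
      haveI := hcon (i + 1) k (by omega)
      let φ := (shortComplexFunctor' (ModuleCat.{u} R) (ComplexShape.up ℤ) (i - 1) i (i + 1)).map (colimit.ι F k)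
      haveI : Epi φ.τ₁ := inferInstanceAs (Epi ((colimit.ι F k).f (i - 1)))
      haveI : IsIso φ.τ₂ := inferInstanceAs (IsIso ((colimit.ι F k).f i))
      haveI : Mono φ.τ₃ := inferInstanceAs (Mono ((colimit.ι F k).f (i + 1)))
      exact ShortComplex.quasiIso_of_epi_of_isIso_of_mono φ
    have hα : QuasiIsoAt (colimit.ι F k ≫ β) i := by
      rw [show colimit.ι F k ≫ β = (st k).α by simp [β]]
      rw [quasiIsoAt_iff_isIso_homologyMap]
      haveI := (st k).apx.1 i (by omega)
      exact (NatIso.isIso_map_iff (DerivedCategory.homologyFunctorFactors (ModuleCat.{u} R) i) (st k).α).1 this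
    exact (quasiIsoAt_iff_comp_left (colimit.ι F k) β i).1 hα

end Groth.Agent.CohDer1.PCAlg
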